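import Mathlib
import Cfsg.Prelude.Def_TwoFusion
import Cfsg.Agent.Loc.MssSyl

/-! A strong closure criterion for elementary abelian 2-subgroups on which involutions act freely. -/

set_option autoImplicit false
set_option linter.unusedSectionVars false

open Cfsg Subgroup

namespace Cfsg.Agent.O3

open Cfsg.Agent.GT Cfsg.Agent.Loc.Mss

variable {G : Type*} [Group G] [Finite G]

/-- Exponent at most two. -/
def El (A : Subgroup G) : Prop := ∀ a ∈ A, a * a = 1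

theorem inv_of_sq {a : G} (h : a * a = 1) : a⁻¹ = a := inv_eq_of_mul_eq_one_right h

theorem El.cm {A : Subgroup G} (h : El A) {a b : G} (ha : a ∈ A) (hb : b ∈ A) : a * b = b * a := by
  have := inv_of_sq (h _ (mul_mem ha hb))
  rw [mul_inv_rev, inv_of_sq (h a ha), inv_of_sq (h b hb)] at this
  exact this.symm

theorem El.fix {A : Subgroup G} (h : El A) {a b : G} (ha : a ∈ A) (hb : b ∈ A) : a * b * a⁻¹ = b := by
  rw [h.cm ha hb]; simp

theorem El.mono {A B : Subgroup G} (h : El A) (hB : B ≤ A) : El B := fun a ha => h a (hB ha)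

theorem El.pg {A : Subgroup G} (h : El A) : IsPGroup 2 A :=
  pg_iff.2 fun x hx => ⟨1, by rw [pow_one, pow_two, h x hx]⟩

theorem El.cent {A : Subgroup G} (h : El A) : A ≤ 𝐂[A] := fun _ ha => mem_cent.2 fun _ hb => h.cm hb ha

theorem El.cj {A : Subgroup G} (h : El A) (g : G) : El cj(g, A) := fun a ha => by
  have := h _ (mem_cj.1 ha)
  calc a * a = g * (g⁻¹ * a * g * (g⁻¹ * a * g)) * g⁻¹ := by group
    _ = 1 := by rw [this]; group

theorem mem_cz {u g : G} : g ∈ 𝐂[zpowers u] ↔ u * g = g * u :=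
  ⟨fun h => mem_cent.1 h u (mem_zpowers u), fun h => cent_comm (zpowers_le.2 (mem_cent.2 fun a ha => by
    obtain ⟨k, rfl⟩ := ha
    exact ((Commute.zpow_right (show Commute u g from h) k).eq).symm)) (mem_zpowers g)⟩

theorem cj_cz (g u : G) : cj(g, 𝐂[zpowers u]) = 𝐂[zpowers (g * u * g⁻¹)] := by
  rw [cj_cent, MonoidHom.map_zpowers]; rfl

theorem le_two {X Y : Subgroup G} (h : ∀ a ∈ X, ∀ b ∈ X, a ∉ Y → b ∉ Y → b * a ∈ Y) :
    Nat.card X ≤ 2 * Nat.card ↥(X ⊓ Y) := by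
  rw [← PG.relIndex_mul_card (inf_le_left : X ⊓ Y ≤ X), inf_relIndex_left]
  refine Nat.mul_le_mul_right _ (Nat.le_of_dvd two_pos (relIndex_dvd_two_iff.2 ?_))
  by_cases e : X ≤ Y
  · exact ⟨1, one_mem _, fun b hb => .inr (e hb)⟩
  · obtain ⟨a, ha, ha'⟩ := SetLike.not_le_iff_exists.1 e
    exact ⟨a, ha, fun b hb => (em (b ∈ Y)).symm.imp_left (h a ha b hb ha')⟩

theorem two_le {X Y : Subgroup G} (hY : Y ≤ X) {a : G} (ha : a ∈ X) (hn : a ∉ Y) :
    2 * Nat.card Y ≤ Nat.card X := by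
  rw [← PG.relIndex_mul_card hY]
  refine Nat.mul_le_mul_right _ ?_
  have h1 : Y.relIndex X ≠ 1 := fun e => hn (relIndex_eq_one.1 e ha)
  have h0 : Y.relIndex X ≠ 0 := index_ne_zero_of_finite
  omega

theorem mul_mem_two {X Y : Subgroup G} (hY : Y ≤ X) (hc : Nat.card X ≤ 2 * Nat.card Y) {a b : G}
    (ha : a ∈ X) (hb : b ∈ X) (na : a ∉ Y) (nb : b ∉ Y) : a * b ∈ Y := by
  have h2 : Y.relIndex X = 2 := by
    have h3 := two_le hY ha na
    have h4 := PG.relIndex_mul_card hY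
    exact Nat.eq_of_mul_eq_mul_right (Nat.card_pos (α := Y)) (by omega)
  exact ((mul_mem_iff_of_index_two (H := Y.subgroupOf X) h2 (a := ⟨a, ha⟩) (b := ⟨b, hb⟩)).2
    (iff_of_false na nb) :)

theorem eq_of_card {X Y : Subgroup G} (h : X ≤ Y) (hc : Nat.card Y ≤ Nat.card X) : X = Y :=
  eq_of_le_of_card_ge h hc

theorem mem_sup_inv {U : Subgroup G} {u e : G} (hu : u * u = 1) (hn : u ∈ 𝐍[U]) :
    e ∈ U ⊔ zpowers u ↔ e ∈ U ∨ e * u ∈ U := by
  refine ⟨fun h => ?_, fun h => h.elim mem_sup_left fun h => ?_⟩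
  · obtain ⟨y, hy, x, hx, rfl⟩ := (mem_sup_norm (zpowers_le.2 hn)).1 h
    obtain ⟨k, rfl⟩ := hx
    have e2 : u ^ (2 : ℤ) = 1 := by rw [zpow_two, hu]
    rcases Int.emod_two_eq_zero_or_one k with l | l
    · left
      show y * u ^ k ∈ U
      rw [← Int.mul_ediv_add_emod k 2, zpow_add, zpow_mul, e2, l]; simpa using hy
    · right
      show y * u ^ k * u ∈ U
      rw [← Int.mul_ediv_add_emod k 2, zpow_add, zpow_mul, e2, l]
      simpa [mul_assoc, hu] using hy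
  · have := mul_mem (mem_sup_left (T := zpowers u) h) (mem_sup_right (S := U) (mem_zpowers u))
    rwa [mul_assoc, hu, mul_one] at this

/-- A subgroup equal to each of its conjugates normalizing it is normal in the 2-groups over it. -/
theorem norm_of_wc {T P : Subgroup G} (h : ∀ g, cj(g, T) ≤ 𝐍[T] → cj(g, T) = T)
    (hP : IsPGroup 2 P) (hT : T ≤ P) : P ≤ 𝐍[T] := by
  have := Fact.mk Nat.prime_two
  have s : Syl 2 (P ⊓ 𝐍[T]) P := Syl.of_norm (hP.to_le inf_le_left) inf_le_left fun Q _ _ h2 h3 =>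
    le_inf h2 fun x hx => cj_eq_iff.1 (h x ((cj_le_of_norm (le_inf hT le_normalizer) (h3 hx)).trans
      inf_le_right))
  exact (s.ge_of_le hP inf_le_left le_rfl).trans inf_le_right

/-- The hypotheses of the criterion. -/
structure SCH (T : Subgroup G) (n k : ℕ) : Prop where
  el : El T
  card : Nat.card T = n * n
  free : ∀ u ∈ 𝐍[T], u * u = 1 → u ∉ T → Nat.card ↥(T ⊓ 𝐂[zpowers u]) = n
  rk : ∀ A ≤ 𝐍[T], El A → Nat.card A ≤ k * Nat.card ↥(A ⊓ T)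
  lt : k < n
  le : k ≤ 4

namespace SCH

variable {T : Subgroup G} {n k : ℕ} (h : SCH T n k)
include h

theorem cj (g : G) : SCH cj(g, T) n k where
  el := h.el.cj g
  card := (card_cj _ _).trans h.card
  free u hu h2 hn := by
    have := h.free (g⁻¹ * u * g) (mem_cj.1 (cj_norm T g ▸ hu)) (by
      rw [show g⁻¹ * u * g * (g⁻¹ * u * g) = g⁻¹ * (u * u) * g by group, h2]; group)
      fun e => hn (mem_cj.2 e)
    rwa [← card_cj _ g, cj_inf, cj_cz, show g * (g⁻¹ * u * g) * g⁻¹ = u by group] at this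
  rk A hA e := by
    have := h.rk cj(g⁻¹, A) (cj_le_iff_le_inv.2 (by rwa [inv_inv, cj_norm])) (e.cj _)
    rwa [card_cj, ← card_cj (_ ⊓ _) g, cj_inf, cj_cj_inv] at this
  lt := h.lt
  le := h.le

theorem not_le {c : ℕ} (hc : n * n ≤ k * c) (h2 : c ≤ n) : False := by
  have h3 : k * c ≤ k * n := Nat.mul_le_mul_left _ h2
  have h4 : k * n < n * n := Nat.mul_lt_mul_of_pos_right h.lt (by have := h.lt; omega)
  omega

theorem wc (g : G) (hn : cj(g, T) ≤ 𝐍[T]) : cj(g, T) = T := by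
  refine cj_eq_of_le fun u hu => by_contra fun nu => ?_
  have h1 := h.rk _ hn (h.el.cj g)
  rw [card_cj, h.card] at h1
  refine h.not_le h1 ?_
  rw [← h.free u (hn hu) (h.el.cj g u hu) nu]
  exact card_le_of_le (le_inf inf_le_right fun x hx => mem_cz.2 ((h.el.cj g).cm hu hx.1))

theorem norm {P : Subgroup G} (hP : IsPGroup 2 P) (hT : T ≤ P) : P ≤ 𝐍[T] := norm_of_wc h.wc hP hT

theorem com {u t : G} (hu : u ∈ 𝐍[T]) (h2 : u * u = 1) (ht : t ∈ T) :
    t * u * t⁻¹ * u ∈ T ⊓ 𝐂[zpowers u] := by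
  have m := conj_mem_of_norm hu ht
  have i := inv_of_sq h2
  rw [inv_of_sq (h.el t ht)]
  rw [i] at m
  refine mem_inf.2 ⟨by simpa only [mul_assoc] using mul_mem ht m, mem_cz.2 ?_⟩
  calc u * (t * u * t * u) = u * t * u * t * u := by group
    _ = t * (u * t * u) * u := by rw [h.el.cm m ht]
    _ = _ := by group

section

variable {u : G} (hu : u ∈ 𝐍[T]) (h2 : u * u = 1) (nu : u ∉ T)
include hu h2 nu

local notation "U" => T ⊓ 𝐂[zpowers u]
local notation "E" => (T ⊓ 𝐂[zpowers u]) ⊔ zpowers u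

theorem uc : u ∈ 𝐂[U] := mem_cent.2 fun _ ha => (mem_cz.1 ha.2).symm

theorem memE {e : G} : e ∈ E ↔ e ∈ U ∨ e * u ∈ U := mem_sup_inv h2 (cent_le_norm _ (h.uc hu h2 nu))

theorem elE : El E := fun e he => by
  rcases (h.memE hu h2 nu).1 he with l | l
  · exact h.el e l.1
  · have h3 := h.el _ l.1
    have h4 : u * e = e * u := by
      have := mem_cz.1 l.2
      rw [mul_assoc e, h2, mul_one, ← mul_assoc] at this
      rw [← mul_right_cancel_iff (a := u), this, mul_assoc, h2, mul_one]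
    rwa [mul_assoc, ← mul_assoc u, h4, mul_assoc e, h2, mul_one] at h3

theorem ET {e : G} (he : e ∈ E) (ht : e ∈ T) : e ∈ U := ((h.memE hu h2 nu).1 he).elim id fun l =>
  (nu (by simpa using mul_mem (inv_mem ht) l.1)).elim

theorem mulE {a b : G} (ha : a ∈ E) (hb : b ∈ E) (na : a ∉ U) (nb : b ∉ U) : a * b ∈ U := by
  have h3 := mul_mem (((h.memE hu h2 nu).1 ha).resolve_left na) (((h.memE hu h2 nu).1 hb).resolve_left nb)
  rwa [mul_assoc, ← mul_assoc u, (h.elE hu h2 nu).cm (mem_sup_right (mem_zpowers u)) hb, mul_assoc b, h2,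
    mul_one] at h3

theorem cardE : Nat.card ↥E = 2 * n := by
  have h3 := le_two (X := E) (Y := U) fun a ha b hb na nb => h.mulE hu h2 nu hb ha nb na
  have h4 := two_le (X := E) (Y := U) le_sup_left (mem_sup_right (mem_zpowers u)) fun e => nu e.1
  rw [inf_eq_right.2 (le_sup_left : U ≤ E), h.free u hu h2 nu] at h3
  rw [h.free u hu h2 nu] at h4
  omega

theorem TU : T ≤ 𝐍[U] := norm_of_cent (h.el.cent.trans (cent_anti inf_le_left))

theorem TE : T ≤ 𝐍[E] := fun t ht => mem_norm_of_cj_le (by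
  rw [cj_sup, cj_of_norm (h.TU hu h2 nu ht), MonoidHom.map_zpowers]
  exact sup_le le_sup_left (zpowers_le.2 ((h.memE hu h2 nu).2 (.inr (h.com hu h2 ht)))))

theorem l1 {A : Subgroup G} (hA : El A) (hE : A ≤ 𝐍[E]) (hU : A ≤ 𝐍[U]) {v : G} (hv : v ∈ A)
    (vE : v ∈ E) (nv : v ∉ U) : Nat.card A ≤ k * Nat.card ↥(A ⊓ U) := by
  have := Fact.mk Nat.prime_two
  obtain ⟨S, h3, hS⟩ := Syl.exists_ge hA.pg (le_inf hE hU)
  obtain ⟨c, hc, h4⟩ := hS.conj_le h.el.pg (le_inf (h.TE hu h2 nu) (h.TU hu h2 nu))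
  have h5 := h3.trans ((h.cj c).norm hS.pg h4)
  have n1 : v ∉ cj(c, T) := fun e => nv (by
    have := h.ET hu h2 nu (conj_mem_of_norm' hc.1 vE) (mem_cj.1 e)
    simpa [mul_assoc] using conj_mem_of_norm hc.2 this)
  have h6 : U = cj(c, T) ⊓ 𝐂[zpowers v] := eq_of_card (le_inf
    ((cj_of_norm hc.2).ge.trans (cj_mono c inf_le_left)) fun x hx =>
      mem_cz.2 ((h.elE hu h2 nu).cm vE (mem_sup_left hx)))
    (by rw [(h.cj c).free v (h5 hv) (hA v hv) n1, h.free u hu h2 nu])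
  refine ((h.cj c).rk A h5 hA).trans (Nat.mul_le_mul_left _ (card_le_of_le fun x hx => ⟨hx.1, ?_⟩))
  rw [h6]
  exact ⟨hx.2, mem_cz.2 (hA.cm hv hx.1)⟩

theorem l2 {g : G} (hE : cj(g, T) ≤ 𝐍[E]) {v : G} (hv : v ∈ cj(g, T)) (vE : v ∈ E) (nv : v ∉ U)
    (H : ∀ a ∈ E, ∀ b ∈ E, a ∉ cj(g, T) → b ∉ cj(g, T) → a * b ∈ cj(g, T)) : False := by
  have e := h.el.cj g
  have eE := h.elE hu h2 nu
  by_cases l : U ≤ cj(g, T)
  · have := h.l1 hu h2 nu e hE (norm_of_cent (e.cent.trans (cent_anti l))) hv vE nv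
    rw [card_cj, h.card] at this
    exact h.not_le this ((card_le_of_le inf_le_right).trans (h.free u hu h2 nu).le)
  obtain ⟨a, ha, na⟩ := SetLike.not_le_iff_exists.1 l
  have aE : a ∈ E := mem_sup_left ha
  have k1 : ∀ τ ∈ cj(g, T), τ * a * τ⁻¹ ∈ U → τ ∈ 𝐍[U] := fun τ hτ m =>
    mem_norm_of_cj_le (cj_le_iff.2 fun y hy => by
      by_cases ly : y ∈ cj(g, T)
      · rwa [e.fix hτ ly]
      · have := e.fix hτ (H y (mem_sup_left hy) a aE ly na)
        rw [show τ * y * τ⁻¹ = τ * (y * a) * τ⁻¹ * (τ * a * τ⁻¹)⁻¹ by group, this]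
        exact mul_mem (mul_mem hy ha) (inv_mem m))
  have k2 := le_two (X := cj(g, T)) (Y := 𝐍[U]) fun τ hτ σ hσ n1 n2 => k1 _ (mul_mem hσ hτ) (by
    have b1 := conj_mem_of_norm (hE hτ) aE
    have b2 := conj_mem_of_norm (hE hσ) aE
    have b3 := e.fix hσ (H _ b1 a aE (fun m => na (by
      simpa [mul_assoc] using mul_mem (mul_mem (inv_mem hτ) m) hτ)) na)
    rw [show σ * τ * a * (σ * τ)⁻¹ = σ * (τ * a * τ⁻¹ * a) * σ⁻¹ * (σ * a * σ⁻¹)⁻¹ by group, b3,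
      inv_of_sq (eE _ b2), mul_assoc, eE.cm aE b2, ← mul_assoc]
    exact mul_mem (h.mulE hu h2 nu b1 b2 (fun m => n1 (k1 _ hτ m)) fun m => n2 (k1 _ hσ m)) ha)
  have k3 := h.l1 hu h2 nu (e.mono inf_le_left) (inf_le_left.trans hE) inf_le_right (v := v)
    ⟨hv, cent_le_norm _ ((cent_anti le_sup_left) (eE.cent vE))⟩ vE nv
  have k4 := two_le (X := U) (Y := cj(g, T) ⊓ 𝐍[U] ⊓ U) inf_le_right ha fun m => na m.1.1
  rw [card_cj, h.card] at k2
  rw [h.free u hu h2 nu] at k4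
  exact h.not_le (c := 2 * _) (k2.trans (by rw [mul_left_comm]; exact Nat.mul_le_mul_left _ k3)) k4

theorem l3 {g : G} (hE : E ≤ 𝐍[cj(g, T)]) (hv : u ∈ cj(g, T)) : False := by
  have e := h.el.cj g
  have h' := h.cj g
  have eE := h.elE hu h2 nu
  have cE := h.cardE hu h2 nu
  have uE : u ∈ E := mem_sup_right (mem_zpowers u)
  have k0 : ∀ a ∈ E, E ⊓ cj(g, T) ≤ cj(g, T) ⊓ 𝐂[zpowers a] := fun a ha x hx =>
    ⟨hx.2, mem_cz.2 (eE.cm ha hx.1)⟩
  by_cases H : ∀ a ∈ E, ∀ b ∈ E, a ∉ cj(g, T) → b ∉ cj(g, T) → a * b ∈ cj(g, T)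
  · refine h.l2 hu h2 nu (fun τ hτ => mem_norm_of_cj_le (cj_le_iff.2 fun a ha => ?_)) hv uE
      (fun m => nu m.1) H
    by_cases l : a ∈ cj(g, T)
    · rwa [e.fix hτ l]
    · have k1 := le_two (X := E) fun a ha b hb na nb => H b hb a ha nb na
      have k2 := eq_of_card (k0 a ha) (by rw [h'.free a (hE ha) (eE a ha) l]; omega)
      have k3 := mul_mem (k2.ge (h'.com (hE ha) (eE a ha) hτ)).1 ha
      rwa [mul_assoc, eE a ha, mul_one] at k3
  push Not at H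
  obtain ⟨a, ha, b, hb, na, nb, nab⟩ := H
  have r := (h'.rk _ hE eE).trans (Nat.mul_le_mul_right _ h.le)
  have k1 : ∀ a ∈ E, a ∈ 𝐍[E ⊓ cj(g, T)] := fun a ha =>
    cent_le_norm _ (cent_anti inf_le_left (eE.cent ha))
  have k2 : ∀ a ∈ E, a ∉ cj(g, T) → ∀ τ ∈ cj(g, T), τ * a * τ⁻¹ * a ∈ E ⊓ cj(g, T) →
      τ ∈ 𝐍[E ⊓ cj(g, T) ⊔ zpowers a] := fun a ha na τ hτ m => mem_norm_of_cj_le (by
    rw [cj_sup, cj_of_cent (cent_anti inf_le_right (e.cent hτ)), MonoidHom.map_zpowers]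
    exact sup_le le_sup_left (zpowers_le.2 ((mem_sup_inv (eE a ha) (k1 a ha)).2 (.inr m))))
  have k3 : ∀ a ∈ E, a ∉ cj(g, T) → ∀ X ≤ cj(g, T),
      Nat.card X ≤ 2 * Nat.card ↥(X ⊓ 𝐍[E ⊓ cj(g, T) ⊔ zpowers a]) := fun a ha na X hX =>
    le_two fun τ hτ σ hσ n1 n2 => k2 a ha na _ (hX (mul_mem hσ hτ)) (by
      have b1 := h'.com (hE ha) (eE a ha) (hX hτ)
      have b2 := h'.com (hE ha) (eE a ha) (hX hσ)
      have b3 := mul_mem_two (k0 a ha) (by rw [h'.free a (hE ha) (eE a ha) na]; omega) b1 b2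
        (fun m => n1 (k2 a ha na _ (hX hτ) m)) fun m => n2 (k2 a ha na _ (hX hσ) m)
      have b4 := e.fix (hX hσ) b1.1
      rwa [← b4, show σ * (τ * a * τ⁻¹ * a) * σ⁻¹ * (σ * a * σ⁻¹ * a) =
        σ * τ * (a * τ⁻¹ * (a * a)) * σ⁻¹ * a by group, eE a ha, mul_one,
        show σ * τ * (a * τ⁻¹) * σ⁻¹ * a = σ * τ * a * (σ * τ)⁻¹ * a by group] at b3)
  have c1 := two_le (X := E ⊓ cj(g, T) ⊔ zpowers a) le_sup_left (mem_sup_right (mem_zpowers a))
    fun m => na m.2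
  have c2 := two_le (X := (E ⊓ cj(g, T) ⊔ zpowers a) ⊔ (E ⊓ cj(g, T) ⊔ zpowers b)) le_sup_left
    (mem_sup_right (mem_sup_right (mem_zpowers b))) fun m =>
      ((mem_sup_inv (eE a ha) (k1 a ha)).1 m).elim (fun m => nb m.2) fun m => nab (eE.cm ha hb ▸ m.2)
  have c3 : (E ⊓ cj(g, T) ⊔ zpowers a) ⊔ (E ⊓ cj(g, T) ⊔ zpowers b) ≤ E :=
    sup_le (sup_le inf_le_left (zpowers_le.2 ha)) (sup_le inf_le_left (zpowers_le.2 hb))
  have c4 := card_le_of_le c3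
  have c5 := eq_of_card c3 (by omega)
  set A := cj(g, T) ⊓ 𝐍[E ⊓ cj(g, T) ⊔ zpowers a] ⊓ 𝐍[E ⊓ cj(g, T) ⊔ zpowers b]
  have a1 : A ≤ cj(g, T) := inf_le_left.trans inf_le_left
  have a2 : A ≤ 𝐍[E] := c5 ▸ norm_sup (inf_le_left.trans inf_le_right) inf_le_right
  have a3 : u ∈ A := ⟨⟨hv, cent_le_norm _ (cent_anti (le_sup_left.trans c3) (eE.cent uE))⟩,
    cent_le_norm _ (cent_anti (le_sup_right.trans c3) (eE.cent uE))⟩
  have a4 : A ≤ 𝐍[U] := fun α hα => by_contra fun nα => by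
    obtain ⟨v, hv, nv⟩ := SetLike.not_le_iff_exists.1 fun m => nα (mem_norm_of_cj_le m)
    refine h.l2 hu h2 nu (g := α) ?_ (cj_mono α inf_le_left hv) (cj_le_of_norm le_sup_left (a2 hα) hv) nv
      fun x hx y hy nx ny => mem_cj.2 ?_
    · rw [← cj_of_norm (a2 hα), ← cj_norm]
      exact cj_mono α (h.TE hu h2 nu)
    · rw [show α⁻¹ * (x * y) * α = α⁻¹ * x * α * (α⁻¹ * y * α) by group]
      exact (h.mulE hu h2 nu (conj_mem_of_norm' (a2 hα) hx) (conj_mem_of_norm' (a2 hα) hy)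
        (fun m => nx (mem_cj.2 m.1)) fun m => ny (mem_cj.2 m.1)).1
  have a5 := h.l1 hu h2 nu (e.mono a1) a2 a4 a3 uE fun m => nu m.1
  have a6 := two_le (X := E ⊓ cj(g, T)) (Y := A ⊓ U) (le_inf (inf_le_right.trans le_sup_left)
    (inf_le_left.trans a1)) ⟨uE, hv⟩ fun m => nu m.2.1
  have a7 := k3 a ha na _ le_rfl
  have a8 : _ ≤ 2 * Nat.card A :=
    k3 b hb nb _ (inf_le_left : cj(g, T) ⊓ 𝐍[E ⊓ cj(g, T) ⊔ zpowers a] ≤ _)
  rw [card_cj, h.card] at a7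
  refine h.not_le (c := 4 * Nat.card ↥(A ⊓ U)) ?_ (by omega)
  rw [mul_left_comm]
  omega

theorem l4 (g : G) : u ∉ cj(g, T) := fun hv => by
  have := Fact.mk Nat.prime_two
  have eE := h.elE hu h2 nu
  obtain ⟨S, h3, hS⟩ := Syl.exists_ge (L := 𝐂[zpowers u]) eE.pg fun x hx =>
    mem_cz.2 (eE.cm (mem_sup_right (mem_zpowers u)) hx)
  obtain ⟨c, hc, h4⟩ := hS.conj_le (h.el.cj g).pg fun x hx => mem_cz.2 ((h.el.cj g).cm hv hx)
  rw [cj_cj] at h4
  refine h.l3 hu h2 nu (h3.trans ((h.cj _).norm hS.pg h4)) ?_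
  have := conj_mem_cj (g := c) hv
  rwa [cj_cj, ← mem_cz.1 hc, mul_inv_cancel_right] at this

end

theorem sc {S : Subgroup G} (hS : IsPGroup 2 S) (hT : T ≤ S) : IsStronglyClosed T S :=
  ⟨hT, fun _ hx g m => by_contra fun nm =>
    h.l4 (h.norm hS hT m) (h.el.cj g _ (conj_mem_cj hx)) nm g (conj_mem_cj hx)⟩

end SCH

end Cfsg.Agent.O3
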