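import Mathlib
import Cfsg.Agent.O3.SC
import Cfsg.Agent.T16.Kit3B
import Cfsg.Agent.GT.CoprimeGen
import Cfsg.Agent.GT.CoprimeProd
import Cfsg.Agent.FT.Wielandt

/-! Groups whose elements of order three have centraliser `3 × 3` or `3 × A₄`: basic facts. -/

set_option autoImplicit false
set_option linter.unusedSectionVars false

open Cfsg Subgroup

namespace Cfsg.Agent.O3

open Cfsg.Agent.GT Cfsg.Agent.Loc.Mss

/-- The hypothesis on centralisers of elements of order three. -/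
structure H (G : Type*) [Group G] : Prop where
  mul : ∀ x : G, orderOf x = 3 → ∀ u v : G, u * u = 1 → v * v = 1 → x * u = u * x → x * v = v * x →
    u * v * (u * v) = 1
  card : ∀ x : G, orderOf x = 3 → Nat.card 𝐂[zpowers x] = 9 ∨ Nat.card 𝐂[zpowers x] = 36
  six : ∀ x : G, orderOf x = 3 → ∀ g : G, x * g = g * x → g ^ 6 = 1
  fpf : ∀ x : G, orderOf x = 3 → ∀ y v : G, y ^ 3 = 1 → x * y = y * x → y ∉ zpowers x → v * v = 1 →
    x * v = v * x → y * v = v * y → v = 1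

/-- The facts on the two model centralisers. -/
structure Md (A : Type*) [Group A] : Prop where
  mul : ∀ u v : A, u * u = 1 → v * v = 1 → u * v * (u * v) = 1
  card : Nat.card A = 9 ∨ Nat.card A = 36
  six : ∀ g : A, g ^ 6 = 1
  fpf : ∀ x y v : A, x ≠ 1 → (∀ g, x * g = g * x) → y ^ 3 = 1 → y ≠ 1 → y ≠ x → y ≠ x⁻¹ → v * v = 1 →
    y * v = v * y → v = 1

theorem md9 : Md (Multiplicative (ZMod 3) × Multiplicative (ZMod 3)) where
  mul := by decide
  card := Or.inl (by simp)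
  six := by decide
  fpf := fun _ _ v _ _ _ _ _ _ h _ =>
    (by decide : ∀ v : Multiplicative (ZMod 3) × Multiplicative (ZMod 3), v * v = 1 → v = 1) v h

theorem a4_mul : ∀ u v : alternatingGroup (Fin 4), u * u = 1 → v * v = 1 → u * v * (u * v) = 1 := by
  decide +kernel

theorem a4_six : ∀ u : alternatingGroup (Fin 4), u ^ 6 = 1 := by decide +kernel

theorem a4_cen : ∀ u : alternatingGroup (Fin 4), (∀ g, u * g = g * u) → u = 1 := by decide +kernel

theorem a4_fpf : ∀ y v : alternatingGroup (Fin 4), y ^ 3 = 1 → y ≠ 1 → v * v = 1 → y * v = v * y →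
    v = 1 := by decide +kernel

theorem md36 : Md (Multiplicative (ZMod 3) × alternatingGroup (Fin 4)) where
  mul := fun u v hu hv => by
    have h1 : ∀ a b : Multiplicative (ZMod 3), a * a = 1 → b * b = 1 → a * b * (a * b) = 1 := by decide
    exact Prod.ext (h1 _ _ (congrArg Prod.fst hu) (congrArg Prod.fst hv))
      (a4_mul _ _ (congrArg Prod.snd hu) (congrArg Prod.snd hv))
  card := Or.inr (by
    rw [Nat.card_prod, alternatingGroup.card_of_card_eq_four (by simp)]; simp)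
  six := fun g => by
    have h1 : ∀ a : Multiplicative (ZMod 3), a ^ 6 = 1 := by decide
    exact Prod.ext (h1 _) (a4_six _)
  fpf := fun x y v x1 hx y3 y1 yx yx' hv hc => by
    have h0 : x.2 = 1 := a4_cen _ fun g => congrArg Prod.snd (hx (1, g))
    have h1 : ∀ a : Multiplicative (ZMod 3), a * a = 1 → a = 1 := by decide
    have h2 : ∀ a b : Multiplicative (ZMod 3), a ≠ 1 → b = 1 ∨ b = a ∨ b = a⁻¹ := by decide
    refine Prod.ext (h1 _ (congrArg Prod.fst hv)) (a4_fpf y.2 _ (congrArg Prod.snd y3) (fun e => ?_)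
      (congrArg Prod.snd hv) (congrArg Prod.snd hc))
    rcases h2 x.1 y.1 (fun e => x1 (Prod.ext e h0)) with a | a | a
    · exact y1 (Prod.ext a e)
    · exact yx (Prod.ext a (e.trans h0.symm))
    · exact yx' (Prod.ext a (by simp [e, h0]))

theorem Md.of_equiv {A B : Type*} [Group A] [Group B] (h : Md B) (e : A ≃* B) : Md A where
  mul := fun u v hu hv => e.injective (by
    simpa using h.mul (e u) (e v) (by rw [← map_mul, hu, map_one]) (by rw [← map_mul, hv, map_one]))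
  card := by rw [Nat.card_congr e.toEquiv]; exact h.card
  six := fun g => e.injective (by simpa using h.six (e g))
  fpf := fun x y v x1 hx y3 y1 yx yx' hv hc => e.injective (by
    rw [map_one]
    refine h.fpf (e x) (e y) (e v) (by simpa using x1) (fun g => ?_) (by rw [← map_pow, y3, map_one])
      (by simpa using y1) (by simpa using yx) (fun a => yx' (e.injective (by rw [a, map_inv])))
      (by rw [← map_mul, hv, map_one]) (by rw [← map_mul, hc, map_mul])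
    obtain ⟨g, rfl⟩ := e.surjective g
    rw [← map_mul, hx, map_mul])

variable {G : Type*} [Group G] [Finite G]

theorem cz_eq (x : G) : 𝐂[zpowers x] = centralizer {x} := by
  ext g; rw [mem_cz, mem_centralizer_singleton_iff]; exact eq_comm

theorem H.of_md (h : ∀ x : G, orderOf x = 3 → Md (centralizer ({x} : Set G))) : H G := by
  have m : ∀ {x g : G}, x * g = g * x → g ∈ centralizer ({x} : Set G) := fun e =>
    mem_centralizer_singleton_iff.2 e.symm
  refine ⟨fun x hx u v hu hv cu cv => congrArg Subtype.val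
      ((h x hx).mul ⟨u, m cu⟩ ⟨v, m cv⟩ (Subtype.ext hu) (Subtype.ext hv)),
    fun x hx => by rw [cz_eq]; exact (h x hx).card,
    fun x hx g c => congrArg Subtype.val ((h x hx).six ⟨g, m c⟩),
    fun x hx y v y3 cy ny hv cv hc => congrArg Subtype.val ((h x hx).fpf ⟨x, m rfl⟩ ⟨y, m cy⟩ ⟨v, m cv⟩
      (fun e => ?_) (fun g => Subtype.ext (mem_centralizer_singleton_iff.1 g.2).symm) (Subtype.ext y3)
      (fun e => ny ?_) (fun e => ny ?_) (fun e => ny ?_) (Subtype.ext hv) (Subtype.ext hc))⟩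
  · rw [show x = 1 from congrArg Subtype.val e] at hx; simp at hx
  · rw [show y = 1 from congrArg Subtype.val e]; exact one_mem _
  · rw [show y = x from congrArg Subtype.val e]; exact mem_zpowers x
  · rw [show y = x⁻¹ from congrArg Subtype.val e]; exact inv_mem (mem_zpowers x)

theorem H.of_hyp (h3 : ∀ s : G, orderOf s = 3 →
      Nonempty (↥(centralizer ({s} : Set G)) ≃* (Multiplicative (ZMod 3) × Multiplicative (ZMod 3))) ∨
      Nonempty (↥(centralizer ({s} : Set G)) ≃*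
        (Multiplicative (ZMod 3) × ↥(alternatingGroup (Fin 4))))) : H G :=
  H.of_md fun x hx => (h3 x hx).elim (fun ⟨e⟩ => md9.of_equiv e) fun ⟨e⟩ => md36.of_equiv e

/-- The four-group (or trivial group) of involutions centralising `x`. -/
def V (x : G) : Subgroup G := closure {v | v * v = 1 ∧ x * v = v * x}

theorem mem_V_of {x v : G} (h : v * v = 1) (c : x * v = v * x) : v ∈ V x := subset_closure ⟨h, c⟩

theorem V_inv (x : G) : V x⁻¹ = V x := by
  unfold V; congr 1; ext v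
  exact and_congr_right fun _ => ⟨fun e => (Commute.inv_left_iff.1 e :), fun e => (Commute.inv_left e :)⟩

theorem cj_V (g x : G) : cj(g, V x) = V (g * x * g⁻¹) := by
  have k : ∀ g x : G, cj(g, V x) ≤ V (g * x * g⁻¹) := fun g x => by
    rw [map_le_iff_le_comap]
    refine (closure_le _).2 fun v hv => mem_V_of (x := g * x * g⁻¹) (v := g * v * g⁻¹) ?_ ?_
    · calc _ = g * (v * v) * g⁻¹ := by group
        _ = 1 := by rw [hv.1]; group
    · calc _ = g * (x * v) * g⁻¹ := by group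
        _ = _ := by rw [hv.2]; group
  refine le_antisymm (k g x) (le_cj_iff_inv_le.2 ?_)
  simpa [mul_assoc] using k g⁻¹ (g * x * g⁻¹)

theorem norm_V {g x : G} (h : g * x * g⁻¹ = x ∨ g * x * g⁻¹ = x⁻¹) : g ∈ 𝐍[V x] := by
  rw [← cj_eq_iff, cj_V]
  rcases h with h | h <;> rw [h]
  exact V_inv x

theorem V_le_cz (x : G) : V x ≤ 𝐂[zpowers x] := (closure_le _).2 fun _ hv => mem_cz.2 hv.2

theorem V_comm {x v : G} (h : v ∈ V x) : x * v = v * x := mem_cz.1 (V_le_cz x h)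

theorem cz_le_norm_V (x : G) : 𝐂[zpowers x] ≤ 𝐍[V x] := fun g hg =>
  norm_V (Or.inl (by rw [← mem_cz.1 hg]; group))

theorem o3 {x : G} (h : x ^ 3 = 1) (h1 : x ≠ 1) : orderOf x = 3 :=
  haveI := Fact.mk Nat.prime_three
  orderOf_eq_prime h h1

theorem o3_pow {x : G} (h : orderOf x = 3) : x ^ 3 = 1 := h ▸ pow_orderOf_eq_one x

theorem o3_ne {x : G} (h : orderOf x = 3) : x ≠ 1 := fun e => by rw [e] at h; simp at h

theorem o3_cj {x : G} (h : orderOf x = 3) (g : G) : orderOf (g * x * g⁻¹) = 3 :=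
  ((MulAut.conj g).orderOf_eq x).trans h

theorem pg3 {x : G} (h : x ^ 3 = 1) : IsPGroup 3 (zpowers x) :=
  pg_iff.2 fun y hy => ⟨1, by
    obtain ⟨k, rfl⟩ := hy
    show (x ^ k) ^ 3 ^ 1 = 1
    rw [pow_one, ← zpow_natCast, ← zpow_mul, mul_comm, zpow_mul, zpow_natCast, h, one_zpow]⟩

theorem eq_one_23 {g : G} (h2 : g * g = 1) (h3 : g ^ 3 = 1) : g = 1 := by
  rw [pow_succ, pow_two, h2, one_mul] at h3; exact h3

/-- Elementary abelian of order nine. -/
structure E9 (P : Subgroup G) : Prop where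
  card : Nat.card P = 9
  exp : ∀ p ∈ P, p ^ 3 = 1

namespace E9

variable {P : Subgroup G} (hP : E9 P)
include hP

theorem cm {a b : G} (ha : a ∈ P) (hb : b ∈ P) : a * b = b * a := T16.mul_comm_of_nine hP.card ha hb

theorem pg : IsPGroup 3 P := pg_iff.2 fun x hx => ⟨1, by rw [pow_one, hP.exp x hx]⟩

theorem o {x : G} (hx : x ∈ P) (h1 : x ≠ 1) : orderOf x = 3 := o3 (hP.exp x hx) h1

theorem le_cz {x : G} (hx : x ∈ P) : P ≤ 𝐂[zpowers x] := fun _ hg => mem_cz.2 (hP.cm hx hg)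

theorem norm_V {x : G} (hx : x ∈ P) : P ≤ 𝐍[V x] := (hP.le_cz hx).trans (cz_le_norm_V x)

theorem cj (g : G) : E9 cj(g, P) :=
  ⟨by rw [card_cj, hP.card], fun p hp => by
    have := hP.exp _ (mem_cj.1 hp)
    calc p ^ 3 = g * (g⁻¹ * p * g) ^ 3 * g⁻¹ := by simp [pow_succ, mul_assoc]
      _ = 1 := by rw [this]; group⟩

theorem exists_not {x : G} (hx : x ∈ P) : ∃ y ∈ P, y ∉ zpowers x := by
  by_contra h
  push Not at h
  have h1 := card_le_of_le (H := P) (K := zpowers x) h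
  rw [hP.card, Nat.card_zpowers] at h1
  have := orderOf_le_of_pow_eq_one (by norm_num) (hP.exp x hx)
  omega

theorem exists_ne : ∃ x ∈ P, x ≠ 1 := by
  obtain ⟨y, hy, hn⟩ := hP.exists_not (one_mem _)
  exact ⟨y, hy, fun e => hn (by rw [e]; exact one_mem _)⟩

theorem not_cyc : ¬ IsCyclic P := fun ⟨g, hg⟩ => by
  obtain ⟨y, hy, hn⟩ := hP.exists_not g.2
  obtain ⟨k, hk⟩ := hg ⟨y, hy⟩
  exact hn ⟨k, congrArg Subtype.val hk⟩

theorem cop {D : Subgroup G} (hD : IsPGroup 2 D) : (Nat.card P).Coprime (Nat.card D) := by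
  haveI := Fact.mk Nat.prime_two
  obtain ⟨k, hk⟩ := hD.exists_card_eq
  rw [hk, hP.card]; exact Nat.Coprime.pow_right _ (by norm_num)

/-- The eight nonidentity elements. -/
theorem cases4 {a b : G} (ha : a ∈ P) (a1 : a ≠ 1) (hb : b ∈ P) (nb : b ∉ zpowers a) {x : G}
    (hx : x ∈ P) (x1 : x ≠ 1) : (x = a ∨ x = a⁻¹) ∨ (x = b ∨ x = b⁻¹) ∨ (x = a * b ∨ x = (a * b)⁻¹) ∨
      (x = a * b⁻¹ ∨ x = (a * b⁻¹)⁻¹) := by
  obtain ⟨u, hu, v, hv, rfl⟩ := T16.exists_decomp hP.card hP.exp ha a1 hb nb hx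
  have c := hP.cm ha hb
  have c' := hP.cm (inv_mem ha) hb
  have c'' := hP.cm (inv_mem ha) (inv_mem hb)
  rcases T16.mem_zpowers_three (hP.exp a ha) hu with rfl | rfl | rfl <;>
    rcases T16.mem_zpowers_three (hP.exp b hb) hv with rfl | rfl | rfl <;> simp_all

theorem casesV {a b : G} (ha : a ∈ P) (a1 : a ≠ 1) (hb : b ∈ P) (nb : b ∉ zpowers a) {x : G}
    (hx : x ∈ P) (x1 : x ≠ 1) : V x = V a ∨ V x = V b ∨ V x = V (a * b) ∨ V x = V (a * b⁻¹) := by
  rcases hP.cases4 ha a1 hb nb hx x1 with (e | e) | (e | e) | (e | e) | e | e <;> simp only [e, V_inv] <;>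
    simp

theorem not_symm {a b : G} (ha : a ∈ P) (a1 : a ≠ 1) (hb : b ∈ P) (nb : b ∉ zpowers a) :
    a ∉ zpowers b := fun h => by
  rcases T16.mem_zpowers_three (hP.exp b hb) h with e | e | e
  · exact a1 e
  · exact nb (e ▸ mem_zpowers _)
  · exact nb (by rw [e]; simp)

end E9

namespace H

variable (h : H G)
include h

theorem mem_V {x v : G} (hx : orderOf x = 3) : v ∈ V x ↔ v * v = 1 ∧ x * v = v * x := by
  refine ⟨fun hv => ⟨?_, V_comm hv⟩, fun hv => mem_V_of hv.1 hv.2⟩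
  induction hv using closure_induction with
  | mem _ hv => exact hv.1
  | one => simp
  | mul a b ha hb ia ib => exact h.mul x hx a b ia ib (V_comm ha) (V_comm hb)
  | inv a _ ia => rw [inv_of_sq ia, ia]

theorem el {x : G} (hx : orderOf x = 3) : El (V x) := fun _ hv => ((h.mem_V hx).1 hv).1

theorem card_cz {x : G} (hx : orderOf x = 3) :
    (Nat.card (V x) = 1 ∨ Nat.card (V x) = 4) ∧ Nat.card 𝐂[zpowers x] = 9 * Nat.card (V x) := by
  haveI := Fact.mk Nat.prime_two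
  obtain ⟨T, h1, hT⟩ := Syl.exists_ge (h.el hx).pg (V_le_cz x)
  have h2 : T = V x := le_antisymm (fun t ht => by
    obtain ⟨k, hk⟩ := pg_iff.1 hT.pg t ht
    have c := mem_cz.1 (hT.le ht)
    have h6 := h.six x hx t c
    have : orderOf t ∣ 2 := (Nat.Coprime.dvd_of_dvd_mul_right (k := orderOf t) (n := 3) (m := 2)
      (Nat.Coprime.coprime_dvd_left (orderOf_dvd_of_pow_eq_one hk) (Nat.Coprime.pow_left _ (by norm_num)))
      (orderOf_dvd_of_pow_eq_one h6))
    exact mem_V_of (by rw [← pow_two]; exact orderOf_dvd_iff_pow_eq_one.1 this) c) h1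
  subst h2
  obtain ⟨k, hk⟩ := hT.pg.exists_card_eq
  have h3 := card_mul_relIndex hT.le
  have h4 := hT.nd
  rw [hk] at h3 ⊢
  have h5 : k ≤ 2 := by
    by_contra h5
    obtain ⟨m, rfl⟩ : ∃ m, k = m + 3 := ⟨k - 3, by omega⟩
    rw [pow_add] at h3
    have : 8 ∣ Nat.card 𝐂[zpowers x] := ⟨2 ^ m * (V x).relIndex 𝐂[zpowers x], by rw [← h3]; ring⟩
    rcases h.card x hx with e | e <;> rw [e] at this <;> omega
  rcases h.card x hx with e | e <;> rw [e] at h3 ⊢ <;> interval_cases k <;> omega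

theorem card_V {x : G} (hx : orderOf x = 3) (hn : V x ≠ ⊥) : Nat.card (V x) = 4 :=
  (h.card_cz hx).1.resolve_left fun e => hn (card_eq_one.1 e)

theorem syl {P : Subgroup G} (hP : E9 P) : Syl 3 P ⊤ := by
  haveI := Fact.mk Nat.prime_three
  obtain ⟨T, h1, hT⟩ := Syl.exists_ge hP.pg (le_top : P ≤ ⊤)
  obtain ⟨a, ha, a1⟩ := hP.exists_ne
  haveI : Nontrivial T := ⟨⟨a, h1 ha⟩, 1, fun e => a1 (congrArg Subtype.val e)⟩
  haveI := hT.pg.center_nontrivial
  obtain ⟨z, hz, z3⟩ := exists_prime_orderOf_dvd_card' (G := center T) 3 (by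
    obtain ⟨k, hk⟩ := (hT.pg.to_subgroup (center T)).exists_card_eq
    rcases k with _ | k
    · exact absurd hk (Finite.one_lt_card (α := center T)).ne'
    · rw [hk, pow_succ]; simp) |>.imp fun z hz => And.intro z.2 hz
  have z3' : orderOf ((z : T) : G) = 3 := by rw [orderOf_coe, orderOf_coe, z3]
  have h2 : T ≤ 𝐂[zpowers ((z : T) : G)] := fun t ht =>
    mem_cz.2 (congrArg Subtype.val (mem_center_iff.1 hz ⟨t, ht⟩)).symm
  have h3 := card_dvd_of_le h2
  obtain ⟨k, hk⟩ := hT.pg.exists_card_eq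
  refine hT.of_card_le hP.pg le_top ?_
  rw [hk] at h3 ⊢
  rw [hP.card]
  by_contra h5
  obtain ⟨m, rfl⟩ : ∃ m, k = m + 3 := ⟨k - 3, by
    by_contra h6
    have : k ≤ 2 := by omega
    interval_cases k <;> omega⟩
  have : 27 ∣ Nat.card 𝐂[zpowers ((z : T) : G)] := Dvd.dvd.trans ⟨3 ^ m, by ring⟩ h3
  rcases h.card _ z3' with e | e <;> rw [e] at this <;> omega

theorem exists_E9 {x : G} (hx : orderOf x = 3) : ∃ P : Subgroup G, E9 P ∧ x ∈ P := by
  haveI := Fact.mk Nat.prime_three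
  obtain ⟨T, h1, hT⟩ := Syl.exists_ge (pg3 (o3_pow hx)) (fun g hg => mem_cz.2 (by
    obtain ⟨k, rfl⟩ := hg; exact ((Commute.refl x).zpow_right k :)) : zpowers x ≤ 𝐂[zpowers x])
  obtain ⟨k, hk⟩ := hT.pg.exists_card_eq
  have h3 := card_mul_relIndex hT.le
  have h4 := hT.nd
  have h9 : Nat.card T = 9 := by
    rw [hk] at h3 ⊢
    have h5 : k ≤ 2 := by
      by_contra h5
      obtain ⟨m, rfl⟩ : ∃ m, k = m + 3 := ⟨k - 3, by omega⟩
      have : 27 ∣ Nat.card 𝐂[zpowers x] := ⟨3 ^ m * T.relIndex 𝐂[zpowers x], by rw [← h3]; ring⟩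
      rcases h.card x hx with e | e <;> rw [e] at this <;> omega
    rcases h.card x hx with e | e <;> rw [e] at h3 <;> interval_cases k <;> omega
  refine ⟨T, ⟨h9, fun p hp => ?_⟩, h1 (mem_zpowers x)⟩
  have a6 := h.six x hx p (mem_cz.1 (hT.le hp))
  have a9 : p ^ 9 = 1 := by rw [← h9]; exact congrArg Subtype.val (pow_card_eq_one' (x := (⟨p, hp⟩ : T)))
  rw [show p ^ 9 = p ^ 6 * p ^ 3 by group, a6, one_mul] at a9
  exact a9

variable {P : Subgroup G} (hP : E9 P)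
include hP

theorem fp {x y v : G} (hx : x ∈ P) (x1 : x ≠ 1) (hy : y ∈ P) (ny : y ∉ zpowers x) (hv : v ∈ V x)
    (c : y * v = v * y) : v = 1 :=
  h.fpf x (hP.o hx x1) y v (hP.exp y hy) (hP.cm hx hy) ny (h.el (hP.o hx x1) v hv) (V_comm hv) c

theorem disj {x y : G} (hx : x ∈ P) (x1 : x ≠ 1) (hy : y ∈ P) (ny : y ∉ zpowers x) :
    V x ⊓ V y = ⊥ := eq_bot_iff.2 fun _ hv => h.fp hP hx x1 hy ny hv.1 (V_comm hv.2)

theorem inf_bot {D : Subgroup G} (hD : IsPGroup 2 D) : P ⊓ D = ⊥ :=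
  CopAct.inf_eq_bot_of_coprime (hP.cop hD)

theorem cz_sup {x : G} (hx : x ∈ P) (x1 : x ≠ 1) : 𝐂[zpowers x] = V x ⊔ P := by
  have o := hP.o hx x1
  refine (eq_of_card (sup_le (V_le_cz x) (hP.le_cz hx)) ?_).symm
  have := card_sup_mul_card_inf_of_le_normalizer (hP.norm_V hx)
  rw [h.inf_bot hP (h.el o).pg, card_bot, hP.card, sup_comm] at this
  rw [(h.card_cz o).2]; omega

theorem dec {x g : G} (hx : x ∈ P) (x1 : x ≠ 1) (c : x * g = g * x) : ∃ v ∈ V x, ∃ p ∈ P, v * p = g :=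
  (mem_sup_norm (hP.norm_V hx)).1 (h.cz_sup hP hx x1 ▸ mem_cz.2 c)

/-- `N(P)/P` acts freely on the nonidentity elements of `P`. -/
theorem free {x g : G} (hx : x ∈ P) (x1 : x ≠ 1) (hg : g ∈ 𝐍[P]) (c : x * g = g * x) : g ∈ P := by
  obtain ⟨v, hv, p, hp, rfl⟩ := h.dec hP hx x1 c
  obtain ⟨y, hy, ny⟩ := hP.exists_not hx
  have n : v ∈ 𝐍[P] := ((𝐍[P]).mul_mem_cancel_right (le_normalizer hp)).1 hg
  have : v * y * v⁻¹ * y⁻¹ ∈ P ⊓ V x := mem_inf.2 ⟨P.mul_mem (conj_mem_of_norm n hy) (P.inv_mem hy), by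
    rw [show v * y * v⁻¹ * y⁻¹ = v * (y * v⁻¹ * y⁻¹) by group]
    exact mul_mem hv (conj_mem_of_norm (hP.norm_V hx hy) (inv_mem hv))⟩
  rw [h.inf_bot hP (h.el (hP.o hx x1)).pg, mem_bot] at this
  rw [h.fp hP hx x1 hy ny hv (by rw [← one_mul (y * v), ← this]; group), one_mul]
  exact hp

theorem cent : 𝐂[P] ≤ P := fun g hg => by
  obtain ⟨x, hx, x1⟩ := hP.exists_ne
  exact h.free hP hx x1 (cent_le_norm _ hg) (mem_cent.1 hg x hx)

theorem cent_eq : 𝐂[P] = P := le_antisymm (h.cent hP) fun _ hg => mem_cent.2 fun _ ha => hP.cm ha hg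

/-- The elements of `V x`. -/
theorem four {x y v : G} (hx : x ∈ P) (x1 : x ≠ 1) (hy : y ∈ P) (ny : y ∉ zpowers x) (hv : v ∈ V x)
    (v1 : v ≠ 1) : v * (y * v * y⁻¹) = y⁻¹ * v * y ∧
      ∀ u ∈ V x, u = 1 ∨ u = v ∨ u = y * v * y⁻¹ ∨ u = y⁻¹ * v * y := by
  classical
  have o := hP.o hx x1
  have n := hP.norm_V hx hy
  have m1 := conj_mem_of_norm n hv
  have m2 := conj_mem_of_norm' n hv
  have y3 := hP.exp y hy
  have d1 : y * v * y⁻¹ ≠ v := fun e => v1 (h.fp hP hx x1 hy ny hv (mul_inv_eq_iff_eq_mul.1 e))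
  have d2 : y⁻¹ * v * y ≠ v := fun e => d1 (by
    calc y * v * y⁻¹ = y * (y⁻¹ * v * y) * y⁻¹ := by rw [e]
      _ = v := by group)
  have d3 : y * v * y⁻¹ ≠ y⁻¹ * v * y := fun e => d1 (by
    have y2 : y * y * y = 1 := by rw [← y3, pow_succ, pow_two]
    calc y * v * y⁻¹ = y⁻¹ * v * y := e
      _ = y⁻¹ * y⁻¹ * (y * v * y⁻¹) * (y * y) := by group
      _ = (y * y * y)⁻¹ * v * (y * y * y) := by rw [e]; group
      _ = v := by rw [y2]; group)
  have n1 : y * v * y⁻¹ ≠ 1 := by simpa using v1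
  have n2 : y⁻¹ * v * y ≠ 1 := fun e => v1 (by
    calc v = y * (y⁻¹ * v * y) * y⁻¹ := by group
      _ = 1 := by rw [e]; group)
  have all : ∀ u ∈ V x, u = 1 ∨ u = v ∨ u = y * v * y⁻¹ ∨ u = y⁻¹ * v * y := by
    have hc := h.card_V o ((V x).ne_bot_iff_exists_ne_one.2 ⟨⟨v, hv⟩, by simpa using v1⟩)
    have : ({1, v, y * v * y⁻¹, y⁻¹ * v * y} : Set G) = V x := Set.eq_of_subset_of_ncard_le (by
      rintro u (rfl | rfl | rfl | rfl)
      exacts [one_mem _, hv, m1, m2]) (by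
        rw [← Nat.card_coe_set_eq, SetLike.coe_sort_coe, hc, Set.ncard_insert_of_notMem (by simp [v1.symm, n1.symm, n2.symm]),
          Set.ncard_insert_of_notMem (by simp [d1.symm, d2.symm]), Set.ncard_pair d3])
    intro u hu
    have hu' : u ∈ (V x : Set G) := hu
    rw [← this] at hu'
    simpa using hu'
  refine ⟨?_, all⟩
  rcases all _ (mul_mem hv m1) with e | e | e | e
  · exact absurd ((eq_inv_of_mul_eq_one_right e).trans (inv_of_sq (h.el o v hv))) d1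
  · exact absurd (by simpa using e) n1
  · exact absurd (by simpa using e) v1
  · exact e

theorem irr {x y v : G} {D : Subgroup G} (hx : x ∈ P) (x1 : x ≠ 1) (hy : y ∈ P) (ny : y ∉ zpowers x)
    (hn : y ∈ 𝐍[D]) (hv : v ∈ V x) (v1 : v ≠ 1) (hD : v ∈ D) : V x ≤ D := fun u hu => by
  rcases (h.four hP hx x1 hy ny hv v1).2 u hu with rfl | rfl | rfl | rfl
  exacts [one_mem _, hD, conj_mem_of_norm hn hD, conj_mem_of_norm' hn hD]

theorem irr' {x : G} {D : Subgroup G} (hx : x ∈ P) (x1 : x ≠ 1) (hn : P ≤ 𝐍[D]) :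
    V x ≤ D ∨ D ⊓ V x = ⊥ := by
  obtain ⟨y, hy, ny⟩ := hP.exists_not hx
  rcases (D ⊓ V x).bot_or_exists_ne_one with e | ⟨v, hv, v1⟩
  exacts [Or.inr e, Or.inl (h.irr hP hx x1 hy ny (hn hy) hv.2 v1 hv.1)]

theorem inf_cz {x : G} {D : Subgroup G} (hx : x ∈ P) (x1 : x ≠ 1) (hc : (Nat.card D).Coprime 3) :
    D ⊓ 𝐂[zpowers x] = D ⊓ V x := by
  refine le_antisymm (fun g hg => ⟨hg.1, ?_⟩) (inf_le_inf_left _ (V_le_cz x))
  have c := mem_cz.1 hg.2
  have : orderOf g ∣ 2 := (Nat.Coprime.dvd_of_dvd_mul_right (k := orderOf g) (n := 3) (m := 2)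
    (Nat.Coprime.coprime_dvd_left (D.orderOf_dvd_natCard hg.1) hc)
    (orderOf_dvd_of_pow_eq_one (h.six x (hP.o hx x1) g c)))
  exact mem_V_of (by rw [← pow_two]; exact orderOf_dvd_iff_pow_eq_one.1 this) c

/-- An invariant `3'`-subgroup is generated by the `V x` it contains. -/
theorem gen' {D K : Subgroup G} (hn : P ≤ 𝐍[D]) (hc : (Nat.card D).Coprime 3)
    (hK : ∀ x ∈ P, x ≠ 1 → V x ≠ ⊥ → V x ≤ D → V x ≤ K) : D ≤ K := by
  refine CopAct.le_of_centralizer_elt_le (T16.comm_of_nine hP.card) hP.not_cyc hn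
    (by rw [hP.card]; exact (Nat.Coprime.pow_right 2 hc).symm) fun x hx x1 => ?_
  rw [← cz_eq, h.inf_cz hP hx x1 hc]
  by_cases e0 : V x = ⊥
  · rw [e0]; simp
  rcases h.irr' hP hx x1 hn with e | e
  · exact inf_le_right.trans (hK x hx x1 e0 e)
  · rw [e]; exact bot_le

theorem two {D : Subgroup G} (hn : P ≤ 𝐍[D]) (hc : (Nat.card D).Coprime 3) : IsPGroup 2 D := by
  haveI := Fact.mk Nat.prime_two
  rw [IsPGroup.iff_card]
  refine ⟨_, Nat.eq_prime_pow_of_unique_prime_dvd Nat.card_pos.ne' fun {r} hr hd => ?_⟩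
  by_contra r2
  haveI := Fact.mk hr
  obtain ⟨R, h1, h2, h3, h4⟩ := CopAct.exists_invariant_sylowIn hn
    (by rw [hP.card]; exact (Nat.Coprime.pow_right 2 hc).symm)
    (Or.inl (CopAct.isSolvable_of_isMulCommutative (T16.comm_of_nine hP.card))) r
  have : R ≤ ⊥ := h.gen' hP h4 (Nat.Coprime.coprime_dvd_left (card_dvd_of_le h1) hc)
    fun x hx x1 n hle => by
      have h5 := card_dvd_of_le hle
      obtain ⟨k, hk⟩ := h2.exists_card_eq
      rw [h.card_V (hP.o hx x1) n, hk] at h5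
      exact absurd ((Nat.prime_dvd_prime_iff_eq Nat.prime_two hr).1
        (Nat.prime_two.dvd_of_dvd_pow (Dvd.dvd.trans (by norm_num) h5))).symm r2
  rw [le_bot_iff.1 this, relIndex_bot_left] at h3
  exact h3 hd

omit hP h in
theorem cop3 {D : Subgroup G} (hD : IsPGroup 2 D) : (Nat.card D).Coprime 3 := by
  haveI := Fact.mk Nat.prime_two
  obtain ⟨k, hk⟩ := hD.exists_card_eq
  rw [hk]; exact Nat.Coprime.pow_left _ (by norm_num)

theorem gen {D K : Subgroup G} (hn : P ≤ 𝐍[D]) (hD : IsPGroup 2 D)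
    (hK : ∀ x ∈ P, x ≠ 1 → V x ≠ ⊥ → V x ≤ D → V x ≤ K) : D ≤ K := h.gen' hP hn (cop3 hD) hK

/-- Generation in terms of a basis. -/
theorem gen4 {a b : G} (ha : a ∈ P) (a1 : a ≠ 1) (hb : b ∈ P) (nb : b ∉ zpowers a) {D K : Subgroup G}
    (hn : P ≤ 𝐍[D]) (hD : IsPGroup 2 D) (h0 : V a ≠ ⊥ → V a ≤ D → V a ≤ K)
    (h1 : V b ≠ ⊥ → V b ≤ D → V b ≤ K) (h2 : V (a * b) ≠ ⊥ → V (a * b) ≤ D → V (a * b) ≤ K)
    (h3 : V (a * b⁻¹) ≠ ⊥ → V (a * b⁻¹) ≤ D → V (a * b⁻¹) ≤ K) : D ≤ K :=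
  h.gen hP hn hD fun x hx x1 => by
    rcases hP.casesV ha a1 hb nb hx x1 with e | e | e | e <;> rw [e] <;> assumption

end H

end Cfsg.Agent.O3
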